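import Groth.Agent.Lib.Depth.More
import Groth.Agent.Lib.Depth.CM
import Groth.Agent.Lib.CI2.Regular
import Groth.Agent.Lib.KoszShH13.Lci2
import Groth.Prelude.Def_W4c5grrsingularflatDSeq
import Mathlib.RingTheory.RegularLocalRing.Defs
import Mathlib.RingTheory.Ideal.AssociatedPrime.Finiteness

/-!
d-sequences generating a prime of an almost complete intersection type in a Cohen-Macaulay local ring.
-/

set_option autoImplicit false
universe u

open IsLocalRing

namespace Groth.Agent.DSeqCM28

variable {T : Type u} [CommRing T]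

/-- A weakly regular initial segment gives the colon conditions there. -/
theorem colon_eq_of_regular (ts : List T) (i k : ℕ) (hk : k < ts.length) (hik : i ≤ k)
    (hreg : RingTheory.Sequence.IsWeaklyRegular T (ts.take (i + 1))) :
    (Ideal.ofList (ts.take i)).colon {ts[k] * ts[i]'(Nat.lt_of_le_of_lt hik hk)} =
      (Ideal.ofList (ts.take i)).colon {ts[k]} := by
  rw [← List.take_concat_get' ts i (by omega), RingTheory.Sequence.isWeaklyRegular_append_iff,
    RingTheory.Sequence.isWeaklyRegular_singleton_iff] at hreg
  ext x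
  simp only [Submodule.mem_colon_singleton, smul_eq_mul]
  refine ⟨fun h => ?_, fun h => by rw [← mul_assoc]; exact Ideal.mul_mem_right _ _ h⟩
  have h2 : IsSMulRegular (T ⧸ (Ideal.ofList (ts.take i) • ⊤ : Submodule T T)) (ts[i]'(by omega)) := hreg.2
  have h0 : Submodule.Quotient.mk (p := (Ideal.ofList (ts.take i) • ⊤ : Submodule T T)) (x * ts[k]) = 0 := by
    apply h2
    show ts[i]'(by omega) • Submodule.Quotient.mk (x * ts[k]) = ts[i]'(by omega) • (0 : T ⧸ _)
    rw [smul_zero, ← Submodule.Quotient.mk_smul, Submodule.Quotient.mk_eq_zero, smul_eq_mul, smul_eq_mul,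
      Ideal.mul_top]
    rw [show ts[i]'(by omega) * (x * ts[k]) = x * (ts[k] * ts[i]'(by omega)) by ring]
    exact h
  rwa [Submodule.Quotient.mk_eq_zero, smul_eq_mul, Ideal.mul_top] at h0

/-- Minimal generators satisfy the irredundancy condition. -/
theorem not_mem_span_others {p : Ideal T} (ts : List T) (hp : Ideal.ofList ts = p)
    (hlen : ts.length = Submodule.spanFinrank p) (i : Fin ts.length) :
    ts[i] ∉ Ideal.span (Set.range fun j : {j : Fin ts.length // j ≠ i} => ts[(j : Fin ts.length)]) := by
  classical
  subst hp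
  intro hmem
  let S : Set T := Set.range fun j : {j : Fin ts.length // j ≠ i} => ts[(j : Fin ts.length)]
  have hS : Ideal.span S = Ideal.ofList ts := by
    refine le_antisymm (Ideal.span_le.2 ?_) ?_
    · rintro _ ⟨j, rfl⟩
      exact Ideal.subset_span (List.getElem_mem _)
    · rw [Ideal.ofList, Ideal.span_le]
      intro y hy
      obtain ⟨j, rfl⟩ := List.get_of_mem hy
      rcases eq_or_ne j i with rfl | hne
      · exact hmem
      · exact Ideal.subset_span ⟨⟨j, hne⟩, rfl⟩
  have h1 : Submodule.spanFinrank (Ideal.ofList ts) ≤ S.ncard := hS ▸ Submodule.spanFinrank_span_le_ncard_of_finite (Set.finite_range _)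
  have h2 : S.ncard ≤ Fintype.card {j : Fin ts.length // j ≠ i} := by
    rw [show S = _ from (Set.image_univ).symm]
    exact (Set.ncard_image_le Set.finite_univ).trans (by rw [Set.ncard_univ, Nat.card_eq_fintype_card])
  rw [Fintype.card_subtype_compl, Fintype.card_fin, Fintype.card_subtype_eq] at h2
  have := i.2
  omega

variable [LocCoh.IsCohenMacaulayLocalRing T]

/-- The last colon condition. -/
theorem mul_mem_of_mul_sq (p : Ideal T) [p.IsPrime] {h : ℕ} (hh : p.height = h) (rs : List T) (hlen : rs.length = h)
    (hrs : ∀ r ∈ rs, r ∈ p) (hreg : RingTheory.Sequence.IsWeaklyRegular T rs) (t : T)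
    (hgen : p = Ideal.ofList rs ⊔ Ideal.span {t})
    (ht : algebraMap T (Localization.AtPrime p) t ∈ (Ideal.ofList rs).map (algebraMap T (Localization.AtPrime p)))
    {x : T} (hx : x * (t * t) ∈ Ideal.ofList rs) : x * t ∈ Ideal.ofList rs := by
  obtain ⟨s, hs, hst⟩ : ∃ s ∈ p.primeCompl, s * t ∈ Ideal.ofList rs :=
    (IsLocalization.algebraMap_mem_map_algebraMap_iff p.primeCompl _ _ _).1 ht
  let M := T ⧸ (Ideal.ofList rs • ⊤ : Submodule T T)
  let z : M := Submodule.Quotient.mk (x * t)
  suffices hz : z = 0 by rwa [Submodule.Quotient.mk_eq_zero, smul_eq_mul, Ideal.mul_top] at hz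
  let I : Ideal T := p ⊔ Ideal.span {s}
  have hkill : ∀ y ∈ I, y • z = 0 := by
    intro y hy
    rw [← Submodule.Quotient.mk_smul, Submodule.Quotient.mk_eq_zero, smul_eq_mul, smul_eq_mul, Ideal.mul_top]
    suffices I ≤ (Ideal.ofList rs).colon {x * t} from Submodule.mem_colon_singleton.1 (this hy)
    refine sup_le (hgen ▸ sup_le ?_ ?_) ?_
    · exact fun r hr => Submodule.mem_colon_singleton.2 (Ideal.mul_mem_right _ _ hr)
    · rw [Ideal.span_le, Set.singleton_subset_iff]
      exact Submodule.mem_colon_singleton.2 (by rw [smul_eq_mul, show t * (x * t) = x * (t * t) by ring]; exact hx)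
    · rw [Ideal.span_le, Set.singleton_subset_iff]
      exact Submodule.mem_colon_singleton.2
        (by rw [smul_eq_mul, show s * (x * t) = x * (s * t) by ring]; exact Ideal.mul_mem_left _ _ hst)
  by_cases htop : I = ⊤
  · simpa using hkill 1 (htop ▸ Submodule.mem_top)
  have hlt : p < I := lt_of_le_of_ne le_sup_left fun he =>
    hs (he ▸ Ideal.mem_sup_right (Ideal.mem_span_singleton_self s))
  have hht : (h : ℕ∞) + 1 ≤ I.height := by
    rw [← hh]
    exact (ENat.add_one_le_iff (by rw [hh]; exact ENat.coe_ne_top h)).2 (Ideal.height_strict_mono_of_isPrime hlt)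
  have hd : LocCoh.idealDepth I M + h = LocCoh.idealDepth I T := by
    rw [← hlen]
    exact DepthLib.idealDepth_quot_add_length hreg fun r hr => hlt.le (hrs r hr)
  rw [GorenLib.idealDepth_eq_height I htop] at hd
  have h1 : 1 ≤ LocCoh.idealDepth I M := by
    by_contra hc
    rw [ENat.lt_one_iff_eq_zero.1 (not_le.1 hc), zero_add] at hd
    rw [← hd] at hht
    exact absurd hht (by norm_cast; omega)
  have hne : Ideal.ofList rs • (⊤ : Submodule T T) ≠ ⊤ := by
    rw [smul_eq_mul, Ideal.mul_top]
    exact ne_top_of_le_ne_top (Ideal.IsPrime.ne_top ‹_›) (Ideal.span_le.2 hrs)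
  haveI : Nontrivial M := Submodule.Quotient.nontrivial_iff.2 hne
  obtain ⟨y, hyI, hy⟩ := DepthLib.exists_isSMulRegular_of_one_le_idealDepth (DepthLib.smul_top_ne_top htop) h1
  exact hy ((hkill y hyI).trans (smul_zero y).symm)

/-- The main construction. -/
theorem exists_generators_regular (p : Ideal T) [p.IsPrime] [IsRegularLocalRing (Localization.AtPrime p)]
    {h : ℕ} (hh : p.height = h) :
    h ≤ Submodule.spanFinrank p ∧ ∃ f : Fin (Submodule.spanFinrank p) → T, Ideal.span (Set.range f) = p ∧
      RingTheory.Sequence.IsWeaklyRegular T ((List.ofFn f).take h) ∧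
      (Ideal.ofList ((List.ofFn f).take h)).map (algebraMap T (Localization.AtPrime p)) =
        maximalIdeal (Localization.AtPrime p) := by
  classical
  let c := Submodule.spanFinrank p
  let L := Localization.AtPrime p
  let g := algebraMap T L
  have hp : p ≠ ⊤ := Ideal.IsPrime.ne_top ‹_›
  have hj : LocCoh.idealDepth p T = h := by rw [GorenLib.idealDepth_eq_height p hp, hh]
  have hdim : ringKrullDim L = (h : ℕ) := by
    rw [IsLocalization.AtPrime.ringKrullDim_eq_height p L, hh]; rfl
  have hsr : (maximalIdeal L).spanFinrank = h := by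
    have := IsRegularLocalRing.spanFinrank_maximalIdeal (R := L)
    rw [hdim] at this
    exact_mod_cast this
  have hmapM : p.map g = maximalIdeal L := IsLocalization.AtPrime.map_eq_maximalIdeal p L
  have main : ∀ i : ℕ, i ≤ h → ∃ hi : i ≤ c, ∃ f : Fin c → T, Ideal.span (Set.range f) = p ∧
      RingTheory.Sequence.IsWeaklyRegular T ((List.ofFn f).take i) ∧
      ∃ S : Finset L, S.card + i ≤ h ∧
        maximalIdeal L = (Ideal.ofList ((List.ofFn f).take i)).map g ⊔ Ideal.span (S : Set L) := by
    intro i
    induction i with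
    | zero =>
      intro _
      obtain ⟨l, hl, hlen⟩ := CI2.exists_generators p
      obtain ⟨S, hS, hSspan⟩ := Submodule.FG.exists_span_set_encard_eq_spanFinrank
        (IsNoetherian.noetherian (maximalIdeal L))
      have hfin : S.Finite := Set.finite_of_encard_eq_coe hS
      refine ⟨Nat.zero_le _, fun q => l.get (q.cast hlen.symm), ?_, by simp, hfin.toFinset, ?_, ?_⟩
      · refine Eq.trans ?_ hl
        rw [Ideal.ofList]
        congr 1
        ext y
        constructor
        · rintro ⟨q, rfl⟩; exact List.get_mem _ _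
        · intro hy; obtain ⟨q, rfl⟩ := List.get_of_mem hy; exact ⟨q.cast hlen, rfl⟩
      · rw [hfin.encard_eq_coe_toFinset_card, Nat.cast_inj] at hS
        omega
      · simp [Ideal.ofList, hfin.coe_toFinset]
        exact hSspan.symm
    | succ i ih =>
      intro hij
      obtain ⟨hi, f, hf, hreg, S, hScard, hS⟩ := ih (Nat.le_of_succ_le hij)
      let rs := (List.ofFn f).take i
      have hrsJ : ∀ r ∈ rs, r ∈ p := fun r hr => by
        obtain ⟨q, rfl⟩ := (List.mem_ofFn' _ _).1 (List.mem_of_mem_take hr)
        exact hf ▸ Ideal.subset_span ⟨q, rfl⟩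
      have hlen : rs.length = i := by simp [rs, List.length_take]; omega
      let M := T ⧸ (Ideal.ofList rs • ⊤ : Submodule T T)
      have hne : Ideal.ofList rs • (⊤ : Submodule T T) ≠ ⊤ := by
        rw [smul_eq_mul, Ideal.mul_top]
        exact ne_top_of_le_ne_top hp (Ideal.span_le.2 hrsJ)
      have : Nontrivial M := Submodule.Quotient.nontrivial_iff.2 hne
      have hd : LocCoh.idealDepth p M + i = (h : ℕ∞) := by
        rw [← hj, ← hlen]; exact Groth.Agent.DepthLib.idealDepth_quot_add_length hreg hrsJ
      have hJM : p • (⊤ : Submodule T M) ≠ ⊤ := Groth.Agent.DepthLib.smul_top_ne_top hp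
      have h1 : 1 ≤ LocCoh.idealDepth p M := by
        by_contra hc
        rw [ENat.lt_one_iff_eq_zero.1 (not_le.1 hc), zero_add] at hd
        have : i = h := by exact_mod_cast hd
        omega
      obtain ⟨y, hyJ, hy⟩ := Groth.Agent.DepthLib.exists_isSMulRegular_of_one_le_idealDepth hJM h1
      let K : Ideal T := Ideal.ofList rs ⊔ IsLocalRing.maximalIdeal T * p
      have hKJ : ¬ p ≤ K := by
        intro hle
        have hle' : p ≤ Ideal.ofList rs := Submodule.le_of_le_smul_of_le_jacobson_bot (IsNoetherian.noetherian p)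
          (IsLocalRing.maximalIdeal_le_jacobson _) hle
        obtain ⟨z, hz⟩ := exists_ne (0 : M)
        refine hz (hy ?_)
        show y • z = y • (0 : M)
        obtain ⟨t, rfl⟩ := Submodule.Quotient.mk_surjective _ z
        rw [smul_zero, ← Submodule.Quotient.mk_smul, Submodule.Quotient.mk_eq_zero, smul_eq_mul,
          smul_eq_mul, Ideal.mul_top]
        exact Ideal.mul_mem_right _ _ (hle' hyJ)
      let K' : Ideal T := ((Ideal.ofList rs).map g ⊔ maximalIdeal L * maximalIdeal L).comap g
      have hK'J : ¬ p ≤ K' := by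
        intro hle
        have hle' : maximalIdeal L ≤ (Ideal.ofList rs).map g ⊔ maximalIdeal L • maximalIdeal L := by
          conv_lhs => rw [← hmapM]
          exact Ideal.map_le_iff_le_comap.2 hle
        have hle'' : maximalIdeal L ≤ (Ideal.ofList rs).map g :=
          Submodule.le_of_le_smul_of_le_jacobson_bot (IsNoetherian.noetherian _)
            (IsLocalRing.maximalIdeal_le_jacobson _) hle'
        have heq : maximalIdeal L = Ideal.span (↑(rs.map g).toFinset : Set L) := by
          refine le_antisymm (hle''.trans ?_) (Ideal.span_le.2 ?_)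
          · rw [Ideal.ofList, Ideal.map_span]
            refine Ideal.span_mono ?_
            rintro _ ⟨a, ha, rfl⟩
            simp only [List.coe_toFinset, Set.mem_setOf_eq, List.mem_map]
            exact ⟨a, ha, rfl⟩
          · intro a ha
            simp only [List.coe_toFinset, Set.mem_setOf_eq, List.mem_map] at ha
            obtain ⟨b, hb, rfl⟩ := ha
            exact hmapM ▸ Ideal.mem_map_of_mem g (hrsJ b hb)
        have hle3 : (maximalIdeal L).spanFinrank ≤ i := by
          rw [heq]
          refine (Submodule.spanFinrank_span_le_ncard_of_finite (Finset.finite_toSet _)).trans ?_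
          rw [Set.ncard_coe_finset]
          exact (List.toFinset_card_le _).trans (by simp [hlen])
        omega
      have hfin := associatedPrimes.finite T M
      obtain ⟨x, hxJ, hxK, hxK', hx⟩ : ∃ x ∈ p, x ∉ K ∧ x ∉ K' ∧ IsSMulRegular M x := by
        by_contra hall
        push Not at hall
        let G : Option (Option (Ideal T)) → Ideal T := fun o => (o.getD (some K')).getD K
        have hcov : (p : Set T) ⊆ ⋃ o ∈ (↑(insert (some none) (insert none (hfin.toFinset.image fun P => some (some P)))) :
            Set (Option (Option (Ideal T)))), G o := by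
          intro x hx
          rw [Finset.coe_insert, Set.biUnion_insert]
          by_cases hxK : x ∈ K
          · exact Or.inl hxK
          refine Or.inr ?_
          rw [Finset.coe_insert, Set.biUnion_insert]
          by_cases hxK' : x ∈ K'
          · exact Or.inl hxK'
          · refine Or.inr ?_
            have hz : x ∈ {r : T | ∃ z : M, z ≠ 0 ∧ r • z = 0} := by
              have := hall x hx hxK hxK'
              rw [isSMulRegular_iff_right_eq_zero_of_smul] at this
              push Not at this
              obtain ⟨z, hz1, hz2⟩ := this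
              exact ⟨z, hz2, hz1⟩
            rw [← biUnion_associatedPrimes_eq_zero_divisors] at hz
            simp only [Set.mem_iUnion, exists_prop] at hz
            obtain ⟨P, hP, hxP⟩ := hz
            simp only [Set.mem_iUnion, exists_prop, Finset.coe_image, Set.Finite.coe_toFinset, Set.mem_image]
            exact ⟨some (some P), ⟨P, hP, rfl⟩, hxP⟩
        obtain ⟨o, ho, hle⟩ := (Ideal.subset_union_prime (some none) none fun o ho hne hne' => by
          rw [Finset.mem_insert, Finset.mem_insert, Finset.mem_image] at ho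
          rcases ho with rfl | rfl | ⟨P, hP, rfl⟩
          · exact absurd rfl hne
          · exact absurd rfl hne'
          · exact ((hfin.mem_toFinset).1 hP).isPrime).1 hcov
        rw [Finset.mem_insert, Finset.mem_insert, Finset.mem_image] at ho
        rcases ho with rfl | rfl | ⟨P, hP, rfl⟩
        · exact hKJ hle
        · exact hK'J hle
        · have hmem : y ∈ ⋃ q ∈ associatedPrimes T M, (q : Set T) :=
            Set.mem_iUnion₂.2 ⟨P, (hfin.mem_toFinset).1 hP, hle hyJ⟩
          rw [biUnion_associatedPrimes_eq_zero_divisors] at hmem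
          obtain ⟨z, hz, hyz⟩ := hmem
          exact hz (hy (hyz.trans (smul_zero y).symm))
      -- exchange downstairs
      obtain ⟨a, ha⟩ := Ideal.mem_span_range_iff_exists_fun.1 (hf.symm ▸ hxJ : x ∈ Ideal.span (Set.range f))
      obtain ⟨q, hq, hqu⟩ : ∃ q : Fin c, i ≤ q ∧ IsUnit (a q) := by
        by_contra hall
        push Not at hall
        refine hxK (ha ▸ sum_mem fun q _ => ?_)
        by_cases hq : (q : ℕ) < i
        · refine Ideal.mem_sup_left (Ideal.mul_mem_left _ _ (Ideal.subset_span ?_))
          show f q ∈ rs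
          exact List.mem_take_iff_getElem.2 ⟨q, by simp [hq], by simp⟩
        · exact Ideal.mem_sup_right (Ideal.mul_mem_mul (hall q (not_lt.1 hq)) (hf ▸ Ideal.subset_span ⟨q, rfl⟩))
      have hic : i < c := lt_of_le_of_lt hq q.2
      let f' : Fin c → T := Function.update (f ∘ Equiv.swap ⟨i, hic⟩ q) ⟨i, hic⟩ x
      have hg : Ideal.span (Set.range f') = p := by
        refine le_antisymm (Ideal.span_le.2 ?_) ?_
        · rintro _ ⟨l, rfl⟩
          rcases eq_or_ne l ⟨i, hic⟩ with rfl | hl
          · simpa [f'] using hxJ
          · simp only [f', Function.update_of_ne hl, Function.comp_apply]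
            exact hf ▸ Ideal.subset_span ⟨_, rfl⟩
        · have hothers : ∀ l, l ≠ q → f l ∈ Ideal.span (Set.range f') := fun l hl => by
            refine Ideal.subset_span ⟨Equiv.swap ⟨i, hic⟩ q l, ?_⟩
            have : Equiv.swap ⟨i, hic⟩ q l ≠ ⟨i, hic⟩ := fun h => hl (by
              have := congrArg (Equiv.swap ⟨i, hic⟩ q) h
              rwa [Equiv.swap_apply_self, Equiv.swap_apply_left] at this)
            simp [f', this]
          rw [← hf, Ideal.span_le]
          rintro _ ⟨l, rfl⟩
          rcases eq_or_ne l q with rfl | hl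
          · have hxg : x ∈ Ideal.span (Set.range f') := Ideal.subset_span ⟨⟨i, hic⟩, by simp [f']⟩
            rw [← ha, ← Finset.add_sum_erase _ _ (Finset.mem_univ l)] at hxg
            have := (Ideal.add_mem_iff_left _ (sum_mem fun m hm => Ideal.mul_mem_left _ _
              (hothers m (Finset.ne_of_mem_erase hm)))).1 hxg
            exact (Ideal.unit_mul_mem_iff_mem _ hqu).1 this
          · exact hothers l hl
      -- exchange upstairs
      have hgx : g x ∈ (Ideal.ofList rs).map g ⊔ Ideal.span (S : Set L) :=
        hS ▸ (hmapM ▸ Ideal.mem_map_of_mem g hxJ)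
      obtain ⟨u₀, hu₀, v, hv, huv⟩ := Submodule.mem_sup.1 hgx
      obtain ⟨b, -, hb⟩ := Submodule.mem_span_finset.1 hv
      obtain ⟨w, hwS, hwu⟩ : ∃ w ∈ S, IsUnit (b w) := by
        by_contra hall
        push Not at hall
        refine hxK' ?_
        rw [Ideal.mem_comap, ← huv, ← hb]
        refine add_mem (Ideal.mem_sup_left hu₀) (sum_mem fun w hw => Ideal.mem_sup_right ?_)
        exact Ideal.mul_mem_mul (hall w hw) (hS ▸ Ideal.mem_sup_right (Ideal.subset_span hw))
      refine ⟨hic, f', hg, ?_⟩
      have htake : (List.ofFn f').take (i + 1) = rs ++ [x] := by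
        apply List.ext_getElem
        · simp [rs, List.length_take]; omega
        intro l hl1 hl2
        have hl : l < i + 1 := by simp [List.length_take] at hl1; omega
        rw [List.getElem_take, List.getElem_ofFn]
        rcases Nat.lt_succ_iff_lt_or_eq.1 hl with hl | rfl
        · rw [List.getElem_append_left (by omega)]
          have h1 : (⟨l, by omega⟩ : Fin c) ≠ ⟨i, hic⟩ := fun h => by simp at h; omega
          have h2 : (⟨l, by omega⟩ : Fin c) ≠ q := fun h => by have h' : l = (q : ℕ) := congrArg Fin.val h; omega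
          simp [f', rs, Equiv.swap_apply_of_ne_of_ne h1 h2, h1]
        · rw [List.getElem_append_right (by omega)]
          simp [f']
      rw [htake, RingTheory.Sequence.isWeaklyRegular_append_iff, RingTheory.Sequence.isWeaklyRegular_singleton_iff]
      refine ⟨⟨hreg, hx⟩, S.erase w, ?_, ?_⟩
      · rw [Finset.card_erase_of_mem hwS]
        have : 0 < S.card := Finset.card_pos.2 ⟨w, hwS⟩
        omega
      · have hof : Ideal.ofList (rs ++ [x]) = Ideal.ofList rs ⊔ Ideal.span {x} := by
          rw [Ideal.ofList_append, Ideal.ofList_singleton]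
        rw [hof, Ideal.map_sup, Ideal.map_span g {x}, Set.image_singleton]
        refine le_antisymm ?_ (sup_le (sup_le (hS ▸ le_sup_left) ?_) ?_)
        · rw [hS]
          refine sup_le (le_sup_left.trans le_sup_left) (Ideal.span_le.2 fun e he => ?_)
          rcases eq_or_ne e w with rfl | hew
          · refine (Ideal.unit_mul_mem_iff_mem _ hwu).1 ?_
            have hsum : b e * e = g x - u₀ - ∑ e' ∈ S.erase e, b e' • e' := by
              rw [← huv, ← hb, ← Finset.add_sum_erase S _ hwS, smul_eq_mul]; ring
            rw [hsum]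
            refine sub_mem (sub_mem (Ideal.mem_sup_left (Ideal.mem_sup_right (Ideal.mem_span_singleton_self _)))
              (Ideal.mem_sup_left (Ideal.mem_sup_left hu₀))) (sum_mem fun e' he' => ?_)
            rw [smul_eq_mul]
            exact Ideal.mem_sup_right (Ideal.mul_mem_left _ _ (Ideal.subset_span he'))
          · exact Ideal.mem_sup_right (Ideal.subset_span (Finset.mem_coe.2 (Finset.mem_erase.2 ⟨hew, he⟩)))
        · rw [Ideal.span_le, Set.singleton_subset_iff]
          exact hmapM ▸ Ideal.mem_map_of_mem g hxJ
        · exact (Ideal.span_mono (Finset.coe_subset.2 (Finset.erase_subset _ _))).trans (hS ▸ le_sup_right)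
  obtain ⟨hhc, f, hf, hreg, S, hcard, hS⟩ := main h le_rfl
  refine ⟨hhc, f, hf, hreg, ?_⟩
  have : S = ∅ := Finset.card_eq_zero.1 (by omega)
  rw [hS, this]
  simp
  rfl

/-- A prime with at most `height + 1` generators and regular localisation is generated by a d-sequence. -/
theorem exists_isDSeq (p : Ideal T) [p.IsPrime] [IsRegularLocalRing (Localization.AtPrime p)]
    (hgen : (Submodule.spanFinrank p : ℕ∞) ≤ p.height + 1) :
    ∃ ts : List T, Ideal.ofList ts = p ∧ W4c5grrsingularflat.IsDSeq ts := by
  obtain ⟨h, hh⟩ : ∃ h : ℕ, p.height = h :=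
    ⟨_, (ENat.coe_toNat (Ideal.height_ne_top (Ideal.IsPrime.ne_top ‹_›))).symm⟩
  obtain ⟨hhc, f, hf, hreg, hmax⟩ := exists_generators_regular p hh
  have hc : Submodule.spanFinrank p ≤ h + 1 := by
    rw [hh] at hgen
    exact_mod_cast hgen
  set ts := List.ofFn f with htsdef
  have hts : Ideal.ofList ts = p := by
    rw [← hf, Ideal.ofList]
    congr 1
    ext y
    simp [ts, List.mem_ofFn]
  have hlen : ts.length = Submodule.spanFinrank p := List.length_ofFn ..
  have hmemts : ∀ r ∈ ts, r ∈ p := fun r hr => hts ▸ Ideal.subset_span hr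
  refine ⟨ts, hts, not_mem_span_others ts hts hlen, fun i k hk hik => ?_⟩
  by_cases hi : i < h
  · refine colon_eq_of_regular ts i k hk hik ?_
    have : (ts.take (i + 1)) = (ts.take h).take (i + 1) := by rw [List.take_take, min_eq_left (by omega)]
    rw [this]
    rw [← List.take_append_drop (i + 1) (ts.take h), RingTheory.Sequence.isWeaklyRegular_append_iff] at hreg
    exact hreg.1
  have hih : i = h := by omega
  have hkh : k = h := by omega
  subst hkh
  subst hih
  have hlt : ts.length = i + 1 := by omega
  have hgen' : p = Ideal.ofList (ts.take i) ⊔ Ideal.span {ts[i]'(by omega)} := by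
    conv_lhs => rw [← hts, ← List.take_length (l := ts), hlt, ← List.take_concat_get' ts i (by omega)]
    rw [Ideal.ofList_append, Ideal.ofList_singleton]
  ext x
  simp only [Submodule.mem_colon_singleton, smul_eq_mul]
  refine ⟨fun hx => ?_, fun hx => by rw [← mul_assoc]; exact Ideal.mul_mem_right _ _ hx⟩
  refine mul_mem_of_mul_sq p hh (ts.take i) (by rw [List.length_take]; omega)
    (fun r hr => hmemts r (List.mem_of_mem_take hr)) hreg _ hgen' ?_ hx
  rw [hmax]
  rw [← IsLocalization.AtPrime.map_eq_maximalIdeal p (Localization.AtPrime p)]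
  exact Ideal.mem_map_of_mem _ (hmemts _ (List.getElem_mem _))

end Groth.Agent.DSeqCM28
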